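import Cfsg.Agent.H990.TC.Univ
import Cfsg.Agent.H253.TwoComm.Base
import Cfsg.Agent.H777.Ore.Base

/-!
# Ore's theorem for quasisimple groups: the frame (S2491, S2492; helper6)

* `RowA K` : every element of every finite perfect central extension of `K` is a commutator;
* `RowN K` : every noncentral element of every finite perfect central extension of `K` is a commutator;
* `RowA.of_surj_univ`, `RowA.of_univ`, `RowA.of_trivial` (`RowN...`) : one universal cover is enough;
* `RowA.of_simple` : trivial multiplier; `RowN.result`, `RowA.result` : the statements S2491, S2492 from the rows;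
* tools: `isC_of_conj_all` (C1), `isC_of_pair` (C2), `isC_of_pair'`.
-/

set_option autoImplicit false

namespace Cfsg.Agent.H6.QO

open Subgroup Cfsg.Agent.H51.Mult Cfsg.Agent.H777.Ore

universe u v w x

/-- every element of every finite perfect central extension is a commutator -/
def RowA (K : Type v) [Group K] : Prop := ∀ (L : Type) [Group L] [Finite L] (π : L →* K), PCE π → AllC L

/-- every noncentral element is a commutator -/
def NC (G : Type u) [Group G] : Prop := ∀ g : G, g ∉ center G → IsC g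

/-- every noncentral element of every finite perfect central extension is a commutator -/
def RowN (K : Type v) [Group K] : Prop := ∀ (L : Type) [Group L] [Finite L] (π : L →* K), PCE π → NC L

theorem AllC.nc {G : Type u} [Group G] (h : AllC G) : NC G := fun g _ => h g

theorem RowA.toN {K : Type v} [Group K] (h : RowA K) : RowN K := fun L _ _ π hπ => AllC.nc (h L π hπ)

theorem NC.of_surjective {G : Type u} {H : Type v} [Group G] [Group H] (f : G →* H) (hf : Function.Surjective f)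
    (h : NC G) : NC H := by
  intro x hx
  obtain ⟨y, rfl⟩ := hf x
  refine (h y fun hy => hx ?_).map f
  rw [mem_center_iff] at hy ⊢
  intro z
  obtain ⟨t, rfl⟩ := hf z
  rw [← map_mul, ← map_mul, hy t]

theorem RowA.congr {K : Type v} {K' : Type w} [Group K] [Group K'] (h : RowA K) (e : K ≃* K') : RowA K' := by
  intro L _ _ π hπ
  exact h L _ (hπ.congr e.symm)

theorem RowN.congr {K : Type v} {K' : Type w} [Group K] [Group K'] (h : RowN K) (e : K ≃* K') : RowN K' := by
  intro L _ _ π hπ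
  exact h L _ (hπ.congr e.symm)

/-- rows in every universe -/
theorem RowA.any {K : Type v} [Group K] (h : RowA K) {G : Type u} [Group G] [Finite G] {π : G →* K} (hπ : PCE π) :
    AllC G := by
  obtain ⟨L, _, _, ⟨e⟩⟩ := H253.TC.exists_small G
  exact AllC.congr e (h L _ (H253.TC.pce_shrink hπ e))

theorem RowN.any {K : Type v} [Group K] (h : RowN K) {G : Type u} [Group G] [Finite G] {π : G →* K} (hπ : PCE π) :
    NC G := by
  obtain ⟨L, _, _, ⟨e⟩⟩ := H253.TC.exists_small G
  exact NC.of_surjective e.toMonoidHom e.surjective (h L _ (H253.TC.pce_shrink hπ e))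

/-! ### one universal cover -/

/-- a group mapping onto every perfect central extension -/
theorem RowA.of_onto {K : Type v} [Group K] {Γ : Type u} [Group Γ]
    (hΓ : ∀ (L : Type) [Group L] [Finite L] (π : L →* K), PCE π → ∃ θ : Γ →* L, Function.Surjective θ) (h : AllC Γ) :
    RowA K := by
  intro L _ _ π hπ
  obtain ⟨θ, hθ⟩ := hΓ L π hπ
  exact AllC.of_surjective θ hθ h

theorem RowN.of_onto {K : Type v} [Group K] {Γ : Type u} [Group Γ]
    (hΓ : ∀ (L : Type) [Group L] [Finite L] (π : L →* K), PCE π → ∃ θ : Γ →* L, Function.Surjective θ) (h : NC Γ) :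
    RowN K := by
  intro L _ _ π hπ
  obtain ⟨θ, hθ⟩ := hΓ L π hπ
  exact NC.of_surjective θ hθ h

/-- the kernel of the cover has the order of the multiplier -/
theorem RowA.of_univ {K : Type v} [Group K] {A : Type w} [CommGroup A] (hA : Cfsg.HasSchurMultiplier K A)
    {Γ : Type u} [Group Γ] {σ : Γ →* K} (hσ : PCE σ) (hcard : Nat.card σ.ker = Nat.card A) (h : AllC Γ) : RowA K :=
  RowA.of_onto (fun _ _ _ _ hπ => H990.TC.exists_surj_of_card hA hσ hcard hπ) h

theorem RowN.of_univ {K : Type v} [Group K] {A : Type w} [CommGroup A] (hA : Cfsg.HasSchurMultiplier K A)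
    {Γ : Type u} [Group Γ] {σ : Γ →* K} (hσ : PCE σ) (hcard : Nat.card σ.ker = Nat.card A) (h : NC Γ) : RowN K :=
  RowN.of_onto (fun _ _ _ _ hπ => H990.TC.exists_surj_of_card hA hσ hcard hπ) h

/-- the cover has trivial multiplier -/
theorem RowA.of_trivial {K : Type v} [Group K] {Γ : Type u} [Group Γ] {σ : Γ →* K} (hσ : PCE σ)
    (hΓ : Cfsg.HasCyclicSchurMultiplier Γ 1) (h : AllC Γ) : RowA K :=
  RowA.of_onto (fun _ _ _ _ hπ => H990.TC.exists_surj_of_trivial hσ hΓ hπ) h

theorem RowN.of_trivial {K : Type v} [Group K] {Γ : Type u} [Group Γ] {σ : Γ →* K} (hσ : PCE σ)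
    (hΓ : Cfsg.HasCyclicSchurMultiplier Γ 1) (h : NC Γ) : RowN K :=
  RowN.of_onto (fun _ _ _ _ hπ => H990.TC.exists_surj_of_trivial hσ hΓ hπ) h

/-- trivial multiplier -/
theorem RowA.of_simple {K : Type v} [Group K] (hK : Cfsg.HasCyclicSchurMultiplier K 1) (hp : commutator K = ⊤)
    (h : AllC K) : RowA K :=
  RowA.of_trivial (σ := MonoidHom.id K) ⟨Function.surjective_id, by
    intro x hx
    have h1 : x = 1 := hx
    rw [h1]; exact one_mem _, hp⟩ hK h

theorem perfect_of_allC {G : Type u} [Group G] (h : AllC G) : commutator G = ⊤ := by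
  rw [eq_top_iff]
  intro g _
  obtain ⟨a, b, rfl⟩ := h g
  exact commutator_mem_commutator (mem_top a) (mem_top b)

theorem RowA.of_simple' {K : Type v} [Group K] (hK : Cfsg.HasCyclicSchurMultiplier K 1) (h : AllC K) : RowA K :=
  RowA.of_simple hK (perfect_of_allC h) h

/-- `K = G / Z(G)` -/
theorem pce_center {G : Type u} [Group G] {K : Type v} [Group K] (hG : commutator G = ⊤) (e : G ⧸ center G ≃* K) :
    PCE (e.toMonoidHom.comp (QuotientGroup.mk' (center G))) := by
  refine ⟨?_, ?_, hG⟩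
  · exact e.surjective.comp (QuotientGroup.mk'_surjective _)
  · intro x hx
    have h1 : e (x : G ⧸ center G) = 1 := hx
    rw [map_eq_one_iff e e.injective] at h1
    exact (QuotientGroup.eq_one_iff x).1 h1

theorem RowA.result {K : Type v} [Group K] (h : RowA K) {G : Type u} [Group G] [Finite G] (hG : commutator G = ⊤)
    (e : G ⧸ center G ≃* K) : AllC G := h.any (pce_center hG e)

theorem RowN.result {K : Type v} [Group K] (h : RowN K) {G : Type u} [Group G] [Finite G] (hG : commutator G = ⊤)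
    (e : G ⧸ center G ≃* K) : NC G := h.any (pce_center hG e)

/-! ### tools -/

section tools

variable {L : Type u} {K : Type v} [Group L] [Group K] {π : L →* K}

/-- commutators do not see central factors -/
theorem comm_mul_central (hc : π.ker ≤ center L) {a b ζ : L} (hζ : π ζ = 1) :
    (a * ζ) * b * (a * ζ)⁻¹ * b⁻¹ = a * b * a⁻¹ * b⁻¹ := by
  have h1 := mem_center_iff.1 (hc hζ) b
  have h2 := mem_center_iff.1 (hc hζ) a
  calc (a * ζ) * b * (a * ζ)⁻¹ * b⁻¹ = a * (ζ * b) * (ζ⁻¹ * a⁻¹) * b⁻¹ := by group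
    _ = a * (b * ζ) * (ζ⁻¹ * a⁻¹) * b⁻¹ := by rw [h1]
    _ = a * b * a⁻¹ * b⁻¹ := by group

/-- **(C1)** -/
theorem isC_of_conj_all (hs : Function.Surjective π) {g : L} (hg : IsC (π g))
    (hconj : ∀ ζ : L, π ζ = 1 → IsConj g (g * ζ)) : IsC g := by
  obtain ⟨a, b, e⟩ := hg
  obtain ⟨a, rfl⟩ := hs a
  obtain ⟨b, rfl⟩ := hs b
  have h1 : π (g⁻¹ * (a * b * a⁻¹ * b⁻¹)) = 1 := by
    rw [map_mul, map_inv, e]; simp only [map_mul, map_inv]; group
  have h2 := hconj _ h1
  have h3 : IsC (g * (g⁻¹ * (a * b * a⁻¹ * b⁻¹))) := ⟨a, b, by group⟩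
  exact h3.of_isConj h2.symm

/-- **(C2)** the first member of the pair is conjugate to all its central multiples -/
theorem isC_of_pair (hs : Function.Surjective π) (hc : π.ker ≤ center L) {g x : L} {k : K}
    (hg : π g = π x * k * (π x)⁻¹ * k⁻¹) (hconj : ∀ ζ : L, π ζ = 1 → IsConj x (x * ζ)) : IsC g := by
  obtain ⟨k, rfl⟩ := hs k
  -- `g = [x, k] ζ`
  obtain ⟨ζ, hζ⟩ : ∃ ζ, g = x * k * x⁻¹ * k⁻¹ * ζ := ⟨(x * k * x⁻¹ * k⁻¹)⁻¹ * g, by group⟩
  have h1 : π ζ = 1 := by
    rw [hζ] at hg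
    simp only [map_mul, map_inv] at hg
    have h2 : π x * π k * (π x)⁻¹ * (π k)⁻¹ * π ζ = π x * π k * (π x)⁻¹ * (π k)⁻¹ * 1 := by rw [mul_one]; exact hg
    exact mul_left_cancel h2
  obtain ⟨c, hcx⟩ := isConj_iff.1 (hconj ζ⁻¹ (by rw [map_inv, h1, inv_one]))
  -- `c x c⁻¹ = x ζ⁻¹`
  have h3 := fun y => mem_center_iff.1 (hc h1) y
  have h4 : c * x⁻¹ * c⁻¹ = x⁻¹ * ζ := by
    have h5 : (c * x * c⁻¹)⁻¹ = (x * ζ⁻¹)⁻¹ := by rw [hcx]
    calc c * x⁻¹ * c⁻¹ = (c * x * c⁻¹)⁻¹ := by group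
      _ = ζ * x⁻¹ := by rw [h5]; group
      _ = x⁻¹ * ζ := (h3 x⁻¹).symm
  refine ⟨x, k * c, ?_⟩
  calc g = x * k * x⁻¹ * (k⁻¹ * ζ) := by rw [hζ]; group
    _ = x * k * x⁻¹ * (ζ * k⁻¹) := by rw [h3 k⁻¹]
    _ = x * k * (x⁻¹ * ζ) * k⁻¹ := by group
    _ = x * k * (c * x⁻¹ * c⁻¹) * k⁻¹ := by rw [h4]
    _ = x * (k * c) * x⁻¹ * (k * c)⁻¹ := by group

/-- (C2) for a kernel of order two or, more generally, generated by `z` : one conjugation is enough -/
theorem isC_of_pair_zpowers (hs : Function.Surjective π) (hc : π.ker ≤ center L) {z : L}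
    (hz : ∀ ζ : L, π ζ = 1 → ζ ∈ zpowers z) (hz1 : π z = 1) {g x : L} {k : K}
    (hg : π g = π x * k * (π x)⁻¹ * k⁻¹) (hconj : IsConj x (x * z)) : IsC g := by
  refine isC_of_pair hs hc hg fun ζ hζ => ?_
  obtain ⟨c, hcx⟩ := isConj_iff.1 hconj
  have hzc := fun y => mem_center_iff.1 (hc hz1) y
  -- conjugation by `c ^ n`
  have key : ∀ n : ℕ, c ^ n * x * (c ^ n)⁻¹ = x * z ^ n := by
    intro n
    induction n with
    | zero => simp
    | succ n ih =>
      have h2 : c * z ^ n = z ^ n * c := ((show Commute c z from hzc c).pow_right n).eq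
      calc c ^ (n + 1) * x * (c ^ (n + 1))⁻¹ = c * (c ^ n * x * (c ^ n)⁻¹) * c⁻¹ := by rw [pow_succ']; group
        _ = c * x * z ^ n * c⁻¹ := by rw [ih]; group
        _ = (c * x * c⁻¹) * (c * z ^ n * c⁻¹) := by group
        _ = (c * x * c⁻¹) * z ^ n := by rw [h2]; group
        _ = x * z ^ (n + 1) := by rw [hcx, pow_succ']; group
  obtain ⟨n, rfl⟩ := hz ζ hζ
  rcases Int.eq_nat_or_neg n with ⟨m, rfl | rfl⟩
  · exact isConj_iff.2 ⟨c ^ m, by rw [key m]; simp⟩
  · -- negative exponents: `c⁻ᵐ`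
    have h3 : (c ^ m)⁻¹ * x * c ^ m = x * (z ^ m)⁻¹ := by
      have h4 := key m
      have h5 : (c ^ m)⁻¹ * z ^ m = z ^ m * (c ^ m)⁻¹ :=
        ((show Commute (c ^ m) (z ^ m) from
          ((show Commute c z from hzc c).pow_pow m m)).inv_left).eq
      have h6 : x = (c ^ m)⁻¹ * x * c ^ m * z ^ m := by
        calc x = (c ^ m)⁻¹ * (c ^ m * x * (c ^ m)⁻¹) * c ^ m := by group
          _ = (c ^ m)⁻¹ * x * (z ^ m * c ^ m) := by rw [h4]; group
          _ = (c ^ m)⁻¹ * x * (c ^ m * z ^ m) := by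
              rw [((show Commute c z from hzc c).pow_pow m m).eq]
          _ = _ := by group
      calc (c ^ m)⁻¹ * x * c ^ m = ((c ^ m)⁻¹ * x * c ^ m * z ^ m) * (z ^ m)⁻¹ := by group
        _ = x * (z ^ m)⁻¹ := by rw [← h6]
    refine isConj_iff.2 ⟨(c ^ m)⁻¹, ?_⟩
    rw [inv_inv, h3]
    simp

end tools

end Cfsg.Agent.H6.QO
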